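import Mathlib
import Cfsg.Prelude.Def_Spor_HN

set_option autoImplicit false

namespace Cfsg.Agent.TcData.HNK

open Cfsg.Spor.HN

/-- A word of the relators. -/
noncomputable def wW : FreeGroup Gen := y * x * y * x * (y ^ 2) * x * (y⁻¹)

/-- The word of the central element. -/
noncomputable def cW : FreeGroup Gen := (wW * x) ^ 7

/-- A conjugating word. -/
noncomputable def sW : FreeGroup Gen := y⁻¹ * y⁻¹ * x * y * x * y * x * y⁻¹ * y⁻¹

/-- The shorter word of the central element. -/
noncomputable def cS : FreeGroup Gen := x⁻¹ * sW⁻¹ * x * sW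

end Cfsg.Agent.TcData.HNK
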