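import Mathlib
import Cfsg.Agent.TcData.HNK.Words
import Cfsg.Agent.TcData.HNK.V.Rep
import Cfsg.Agent.TcData.HNK.Ch.Low
import Cfsg.Agent.TcData.HNK.R1.Up
import Cfsg.Agent.TcData.HNK.R0.Up

set_option autoImplicit false
set_option Elab.async false
set_option maxRecDepth 100000
set_option linter.all false

namespace Cfsg.Agent.TcData.HNK.Fin

open Cfsg.Spor Cfsg.Agent.Lib.TcFacts Cfsg.Agent.Lib.TcBits Cfsg.Agent.Lib.TcPres Cfsg.Agent.Lib.TcRel Cfsg.Agent.Lib.TcChain Cfsg.Agent.Lib.TcLevels Cfsg.Spor.HN Cfsg.Agent.TcData.HNK Cfsg.Agent.TcData.HNK.V Cfsg.Agent.TcData.HNK.Ch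

theorem t0 : Nat.card (subOf RR ([] : List Gen)) ≠ 0 ∧ Nat.card (subOf RR ([] : List Gen)) ≤ 1 := tower_nil

theorem t1 : Nat.card (subOf RR R1.SL) ≠ 0 ∧ Nat.card (subOf RR R1.SL) ≤ 1 * 6 :=
  tower_step R1.hTS t0 R1.relIndex_le'

theorem t2 : Nat.card (subOf RR R0.SL) ≠ 0 ∧ Nat.card (subOf RR R0.SL) ≤ 1 * 6 * 252000 :=
  tower_step R0.hTS t1 R0.relIndex_le'

theorem up : Nat.card (subOf RR SLt) ≠ 0 ∧ Nat.card (subOf RR SLt) ≤ 1512000 := by
  have h := t2
  norm_num at h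
  exact h

theorem main : Nat.card (subOf RR SLt) = 1512000 ∧ Set.InjOn Phi (subOf RR SLt) :=
  card_eq_of_bounds_sub Phi _ up hK low

/-- A word in `x`, `y` is trivial if it is in the representation. -/
theorem vanish {w : FreeGroup Gen} (hw : ∀ p ∈ w.toWord, p.1 ∈ SLt)
    (hs : ∀ j, j < 12 → wordApply (sgnProg pr) w.toWord (slice 12 j) = slice 12 j) :
    PresentedGroup.mk RR w = 1 :=
  mk_eq_one_of_slices hR hv main.2 hw hs

theorem x4 : PresentedGroup.mk RR (x ^ 4) = 1 := vanish (by decide +kernel) (by decide +kernel)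

theorem c3 : PresentedGroup.mk RR (cW ^ 3) = 1 := vanish (by decide +kernel) (by decide +kernel)

theorem cx : PresentedGroup.mk RR (x * cW * x⁻¹ * cW) = 1 := vanish (by decide +kernel) (by decide +kernel)

theorem cy : PresentedGroup.mk RR (y * cW * y⁻¹ * cW⁻¹) = 1 := vanish (by decide +kernel) (by decide +kernel)

theorem cs : PresentedGroup.mk RR (cS * cW⁻¹) = 1 := vanish (by decide +kernel) (by decide +kernel)

theorem cne : PresentedGroup.mk RR cW ≠ 1 :=
  mk_ne_one_of_apply hR hv (X := 1) (by decide +kernel)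

theorem cmem : PresentedGroup.mk RR cW ∈ subOf RR SLt := by
  have h := Cfsg.Agent.Lib.TcAbs.mk_mem_subOf (R := RR) (S := SLt) (L := cW.toWord) (by decide +kernel)
  rwa [FreeGroup.mk_toWord] at h

end Cfsg.Agent.TcData.HNK.Fin
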